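import Cfsg.Agent.H64.Co3.Adm

/-!
# S1920 (`χ(1)`-boxes), SIM: the (-1)-eigenspace of `Ad M` on `so(Q)` for similitudes with scalar square (helper921)

`Q` nondegenerate, `2 ≠ 0`, `n = finrank V`, `M (M v) = l v`.

* `finrank_adm_sq` : `M` self-adjoint, `l = ν²` : `finrank (adm Q M) = k (n - k)`, `k = finrank ker (M - ν)`;
* `finrank_adm_nonsq` : `M` self-adjoint, `l` not a square: `4 finrank (adm Q M) = n²`;
* `finrank_adm_skew` : `M` skew: `4 finrank (adm Q M) = n (n - 2)`;
* `adB` : the same for a symmetric bilinear form and `M : End V` (interface of `E₇`).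
-/

set_option autoImplicit false

open QuadraticMap

namespace Cfsg.Agent.H921.Co3.Sim

open Module
open Cfsg.Agent.LieClassical.OrthCore (Nondeg)
open Cfsg.Agent.H64.Co3

/-! ### Counting pairs -/

theorem card_gt (k : ℕ) : Fintype.card {p : Fin k × Fin k // p.2 < p.1} = Fintype.card {p : Fin k × Fin k // p.1 < p.2} :=
  Fintype.card_congr ((Equiv.prodComm _ _).subtypeEquiv fun _ => Iff.rfl)

theorem card_le_add (k : ℕ) : Fintype.card {p : Fin k × Fin k // p.1 < p.2} +
    Fintype.card {p : Fin k × Fin k // p.1 ≤ p.2} = k * k := by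
  have h1 := Fintype.card_subtype_compl (fun p : Fin k × Fin k => p.1 ≤ p.2)
  have h2 : Fintype.card {p : Fin k × Fin k // ¬ p.1 ≤ p.2} = Fintype.card {p : Fin k × Fin k // p.2 < p.1} :=
    Fintype.card_congr (Equiv.subtypeEquivRight fun p => not_le)
  have h3 := Fintype.card_subtype_le (fun p : Fin k × Fin k => p.1 ≤ p.2)
  rw [Fintype.card_prod, Fintype.card_fin] at h1 h3
  rw [h2, card_gt] at h1
  omega

theorem card_le_eq (k : ℕ) : Fintype.card {p : Fin k × Fin k // p.1 ≤ p.2} =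
    Fintype.card {p : Fin k × Fin k // p.1 < p.2} + k := by
  have e : {p : Fin k × Fin k // p.1 ≤ p.2} ≃ {p : Fin k × Fin k // p.1 < p.2} ⊕ Fin k :=
    { toFun := fun p => if h : p.1.1 < p.1.2 then Sum.inl ⟨p.1, h⟩ else Sum.inr p.1.1
      invFun := fun s => Sum.elim (fun p => ⟨p.1, p.2.le⟩) (fun i => ⟨(i, i), le_refl _⟩) s
      left_inv := by
        rintro ⟨⟨i, j⟩, h⟩
        by_cases h1 : i < j
        · simp [h1]
        · have h2 : i = j := le_antisymm h (not_lt.1 h1)
          subst h2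
          simp
      right_inv := by
        rintro (⟨⟨i, j⟩, h⟩ | i)
        · exact dif_pos h
        · simp }
  rw [Fintype.card_congr e, Fintype.card_sum, Fintype.card_fin]

theorem card_lt_two (k : ℕ) : Fintype.card {p : Fin k × Fin k // p.1 < p.2} + Fintype.card {p : Fin k × Fin k // p.1 < p.2}
    = k * (k - 1) := by
  have h1 := card_le_add k
  rw [card_le_eq] at h1
  rw [Nat.mul_sub, mul_one]
  omega

section mat

variable {F : Type*} [Field F]

theorem finrank_AA_neg' (h2 : (2 : F) ≠ 0) (k : ℕ) (l : F) : finrank F (AA k (-1) l) = k * (k - 1) := by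
  rw [(LinearEquiv.ofBijective (coN k l) (coN_bij h2 l)).finrank_eq, Module.finrank_fintype_fun_eq_card,
    Fintype.card_sum, card_lt_two]

theorem finrank_AA_pos' (h2 : (2 : F) ≠ 0) (k : ℕ) (l : F) : finrank F (AA k 1 l) = k * k := by
  rw [(LinearEquiv.ofBijective (coP k l) (coP_bij h2 l)).finrank_eq, Module.finrank_fintype_fun_eq_card,
    Fintype.card_sum, card_le_add]

/-- skew matrices with diagonal blocks zero -/
def BB (F : Type*) [Field F] (a c : ℕ) : Submodule F (Matrix (Fin a ⊕ Fin c) (Fin a ⊕ Fin c) F) where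
  carrier := {A | (∀ i j, A j i = - A i j) ∧ (∀ i j, A (Sum.inl i) (Sum.inl j) = 0) ∧
    ∀ i j, A (Sum.inr i) (Sum.inr j) = 0}
  add_mem' := by
    rintro A B ⟨h1, h2, h3⟩ ⟨h4, h5, h6⟩
    refine ⟨fun i j => ?_, fun i j => ?_, fun i j => ?_⟩
    · rw [Matrix.add_apply, Matrix.add_apply, h1, h4]; ring
    · rw [Matrix.add_apply, h2, h5, add_zero]
    · rw [Matrix.add_apply, h3, h6, add_zero]
  zero_mem' := by simp
  smul_mem' := by
    rintro c A ⟨h1, h2, h3⟩
    refine ⟨fun i j => ?_, fun i j => ?_, fun i j => ?_⟩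
    · rw [Matrix.smul_apply, Matrix.smul_apply, h1, smul_neg]
    · rw [Matrix.smul_apply, h2, smul_zero]
    · rw [Matrix.smul_apply, h3, smul_zero]

/-- coordinates -/
def coB (a c : ℕ) : BB F a c →ₗ[F] (Fin a × Fin c → F) where
  toFun A := fun p => A.1 (Sum.inl p.1) (Sum.inr p.2)
  map_add' A B := rfl
  map_smul' c A := rfl

theorem coB_bij (a c : ℕ) : Function.Bijective (coB (F := F) a c) := by
  constructor
  · rw [← LinearMap.ker_eq_bot, LinearMap.ker_eq_bot']
    rintro ⟨A, h1, h3, h4⟩ h0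
    have e1 : ∀ i j, A (Sum.inl i) (Sum.inr j) = 0 := fun i j => congrFun h0 (i, j)
    apply Subtype.ext
    ext i j
    rcases i with i | i <;> rcases j with j | j
    · exact h3 i j
    · exact e1 i j
    · show A (Sum.inr i) (Sum.inl j) = 0
      rw [h1, e1, neg_zero]
    · exact h4 i j
  · intro f
    refine ⟨⟨Matrix.fromBlocks 0 (Matrix.of fun i j => f (i, j)) (-Matrix.of fun j i => f (i, j)) 0, ?_, ?_, ?_⟩, ?_⟩
    · rintro (i | i) (j | j)
      · show (0 : F) = -0
        rw [neg_zero]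
      · rfl
      · show f (j, i) = - - f (j, i)
        rw [neg_neg]
      · show (0 : F) = -0
        rw [neg_zero]
    · intro i j; rfl
    · intro i j; rfl
    · funext p; rfl

theorem finrank_BB (a c : ℕ) : finrank F (BB F a c) = a * c := by
  rw [(LinearEquiv.ofBijective (coB a c) (coB_bij a c)).finrank_eq, Module.finrank_fintype_fun_eq_card,
    Fintype.card_prod, Fintype.card_fin, Fintype.card_fin]

end mat

section form

variable {F V : Type*} [Field F] [AddCommGroup V] [Module F V] [FiniteDimensional F V] {Q : QuadraticForm F V}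

/-! ### Self-adjoint, `l = ν²` -/

/-- a basis of eigenvectors -/
theorem exists_eigbasis (h2 : (2 : F) ≠ 0) {M : V ≃ₗ[F] V} {n : F} (hn : n ≠ 0) (hM : ∀ v, M (M v) = (n * n) • v) :
    ∃ b : Basis (Fin (finrank F (eig M n)) ⊕ Fin (finrank F (eig M (-n)))) F V,
      (∀ i, M (b (Sum.inl i)) = n • b (Sum.inl i)) ∧ ∀ i, M (b (Sum.inr i)) = (-n) • b (Sum.inr i) := by
  let x := Module.finBasis F (eig M n)
  let y := Module.finBasis F (eig M (-n))
  have hli : LinearIndependent F (Sum.elim (fun i => (x i : V)) (fun i => (y i : V))) := by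
    rw [Fintype.linearIndependent_iff]
    intro g hg
    rw [Fintype.sum_sum_type] at hg
    simp only [Sum.elim_inl, Sum.elim_inr] at hg
    have e1 : ∑ i, g (Sum.inl i) • (x i : V) = ((∑ i, g (Sum.inl i) • x i : eig M n) : V) := by
      rw [Submodule.coe_sum]; rfl
    have e2 : ∑ i, g (Sum.inr i) • (y i : V) = ((∑ i, g (Sum.inr i) • y i : eig M (-n)) : V) := by
      rw [Submodule.coe_sum]; rfl
    rw [e1, e2] at hg
    have h3 : ((∑ i, g (Sum.inl i) • x i : eig M n) : V) = 0 := by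
      apply eig_inf h2 hn (Submodule.coe_mem _)
      rw [eq_neg_of_add_eq_zero_left hg]
      exact Submodule.neg_mem _ (Submodule.coe_mem _)
    have h4 : ((∑ i, g (Sum.inr i) • y i : eig M (-n)) : V) = 0 := by
      rw [h3, zero_add] at hg
      exact hg
    have h5 := Fintype.linearIndependent_iff.1 x.linearIndependent _ (Subtype.ext h3)
    have h6 := Fintype.linearIndependent_iff.1 y.linearIndependent _ (Subtype.ext h4)
    rintro (i | i)
    · exact h5 i
    · exact h6 i
  have hc : Fintype.card (Fin (finrank F (eig M n)) ⊕ Fin (finrank F (eig M (-n)))) = finrank F V := by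
    rw [Fintype.card_sum, Fintype.card_fin, Fintype.card_fin]
    exact finrank_eig h2 hn hM
  refine ⟨basisOfLinearIndependentOfCardEqFinrank' _ hli hc, fun i => ?_, fun i => ?_⟩
  · rw [coe_basisOfLinearIndependentOfCardEqFinrank']
    exact mem_eig.1 (x i).2
  · rw [coe_basisOfLinearIndependentOfCardEqFinrank']
    exact mem_eig.1 (y i).2

omit [FiniteDimensional F V] in
theorem mem_adm_iff_BB (h2 : (2 : F) ≠ 0) (hQ : Nondeg Q) {M : V ≃ₗ[F] V} {n : F} (hn : n ≠ 0)
    (hs : ∀ u v, polar Q (M u) v = polar Q u (M v)) {a c : ℕ} (b : Basis (Fin a ⊕ Fin c) F V)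
    (h1 : ∀ i, M (b (Sum.inl i)) = n • b (Sum.inl i)) (h1' : ∀ i, M (b (Sum.inr i)) = (-n) • b (Sum.inr i))
    (S : V →ₗ[F] V) : S ∈ adm Q M ↔ gram Q b S ∈ BB F a c := by
  constructor
  · rintro ⟨hk, hc⟩
    have key : ∀ u v, polar Q (S (M u)) v = - polar Q (S u) (M v) := by
      intro u v
      rw [← hs, hc u, polar_neg_left, neg_neg]
    refine ⟨fun i j => ?_, fun i j => ?_, fun i j => ?_⟩
    · rw [gram_apply, gram_apply, hk, polar_comm]
    · rw [gram_apply]
      have h3 := key (b (Sum.inl i)) (b (Sum.inl j))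
      rw [h1, h1, map_smul, polar_smul_left, polar_smul_right, smul_eq_mul] at h3
      exact (mul_eq_zero.1 (eq_zero_of_neg h2 h3)).resolve_left hn
    · rw [gram_apply]
      have h3 := key (b (Sum.inr i)) (b (Sum.inr j))
      rw [h1', h1', map_smul, polar_smul_left, polar_smul_right, smul_eq_mul] at h3
      exact (mul_eq_zero.1 (eq_zero_of_neg h2 h3)).resolve_left (neg_ne_zero.2 hn)
  · rintro ⟨k1, k2, k3⟩
    let f1 : V →ₗ[F] V →ₗ[F] F := (polarBilin Q).comp S
    let f2 : V →ₗ[F] V →ₗ[F] F := -((polarBilin Q).compl₂ S)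
    have e1 : f1 = f2 := by
      apply polar_ext b
      intro i j
      show polar Q (S (b i)) (b j) = - polar Q (b i) (S (b j))
      have := k1 j i
      rw [gram_apply, gram_apply] at this
      rw [this, polar_comm Q (b i)]
    let g1 : V →ₗ[F] V →ₗ[F] F := ((polarBilin Q).comp S).comp M.toLinearMap
    let g2 : V →ₗ[F] V →ₗ[F] F := -(((polarBilin Q).comp S).compl₂ M.toLinearMap)
    have e2 : g1 = g2 := by
      apply polar_ext b
      rintro (i | i) (j | j)
      · show polar Q (S (M (b (Sum.inl i)))) (b (Sum.inl j)) = - polar Q (S (b (Sum.inl i))) (M (b (Sum.inl j)))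
        have := k2 i j
        rw [gram_apply] at this
        rw [h1, h1, map_smul, polar_smul_left, polar_smul_right, this, smul_zero, neg_zero]
      · show polar Q (S (M (b (Sum.inl i)))) (b (Sum.inr j)) = - polar Q (S (b (Sum.inl i))) (M (b (Sum.inr j)))
        rw [h1, h1', map_smul, polar_smul_left, polar_smul_right, neg_smul, neg_neg]
      · show polar Q (S (M (b (Sum.inr i)))) (b (Sum.inl j)) = - polar Q (S (b (Sum.inr i))) (M (b (Sum.inl j)))
        rw [h1, h1', map_smul, polar_smul_left, polar_smul_right, neg_smul]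
      · show polar Q (S (M (b (Sum.inr i)))) (b (Sum.inr j)) = - polar Q (S (b (Sum.inr i))) (M (b (Sum.inr j)))
        have := k3 i j
        rw [gram_apply] at this
        rw [h1', h1', map_smul, polar_smul_left, polar_smul_right, this, smul_zero, neg_zero]
    have m1 : ∀ u v, polar Q (S u) v = - polar Q u (S v) := fun u v =>
      congrArg (fun f : V →ₗ[F] V →ₗ[F] F => f u v) e1
    have m2 : ∀ u v, polar Q (S (M u)) v = - polar Q (S u) (M v) := fun u v =>
      congrArg (fun f : V →ₗ[F] V →ₗ[F] F => f u v) e2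
    refine ⟨m1, fun u => ?_⟩
    rw [← sub_eq_zero, sub_neg_eq_add]
    apply hQ
    intro v
    rw [polar_add_left, m2, hs, add_neg_cancel]

/-- **self-adjoint, `l = ν²`** -/
theorem finrank_adm_sq' (h2 : (2 : F) ≠ 0) (hQ : Nondeg Q) {M : V ≃ₗ[F] V} {n : F} (hn : n ≠ 0)
    (hM : ∀ v, M (M v) = (n * n) • v) (hs : ∀ u v, polar Q (M u) v = polar Q u (M v)) :
    finrank F (adm Q M) = finrank F (eig M n) * finrank F (eig M (-n)) := by
  obtain ⟨b, hb1, hb2⟩ := exists_eigbasis h2 hn hM
  let Φ := LinearEquiv.ofBijective (gram Q b) ⟨gram_injective hQ b, gram_surjective hQ b⟩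
  have h1 : (adm Q M).map (Φ : (V →ₗ[F] V) →ₗ[F] _) = BB F (finrank F (eig M n)) (finrank F (eig M (-n))) := by
    ext A
    constructor
    · rintro ⟨S, hS, rfl⟩
      exact (mem_adm_iff_BB h2 hQ hn hs b hb1 hb2 S).1 hS
    · intro hA
      obtain ⟨S, rfl⟩ := Φ.surjective A
      exact ⟨S, (mem_adm_iff_BB h2 hQ hn hs b hb1 hb2 S).2 hA, rfl⟩
  rw [← finrank_BB (F := F), ← h1, LinearEquiv.finrank_map_eq]

/-- **self-adjoint, `l = ν²`**: `k (n - k)`, `k = finrank ker (M - ν)` -/
theorem finrank_adm_sq (h2 : (2 : F) ≠ 0) (hQ : Nondeg Q) {M : V ≃ₗ[F] V} {ν : F} (hν : ν ≠ 0)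
    (hM : ∀ v, M (M v) = (ν * ν) • v) (hs : ∀ u v, polar Q (M u) v = polar Q u (M v)) :
    finrank F (adm Q M) = finrank F (eig M ν) * (finrank F V - finrank F (eig M ν)) := by
  rw [finrank_adm_sq' h2 hQ hν hM hs, ← finrank_eig h2 hν hM, Nat.add_sub_cancel_left]

/-! ### The other cases -/

theorem exists_ada_of_fr' {k : ℕ} (hd : finrank F V = 2 * k) {M : V ≃ₗ[F] V} {l : F} (hM : ∀ v, M (M v) = l • v)
    {v : Fin k → V} (hv : Fr M v) : ∃ b : Basis (Fin k ⊕ Fin k) F V, Ada Q M k l b := by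
  have hli : LinearIndependent F (Sum.elim v (fun i => M (v i))) := by
    rw [Fintype.linearIndependent_iff]
    intro g hg
    rw [Fintype.sum_sum_type] at hg
    simp only [Sum.elim_inl, Sum.elim_inr] at hg
    rw [← Finset.sum_add_distrib] at hg
    obtain ⟨h1, h2⟩ := hv (fun i => g (Sum.inl i)) (fun i => g (Sum.inr i)) hg
    rintro (i | i)
    · exact congrFun h1 i
    · exact congrFun h2 i
  have hc : Fintype.card (Fin k ⊕ Fin k) = finrank F V := by
    rw [hd, Fintype.card_sum, Fintype.card_fin]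
    omega
  refine ⟨basisOfLinearIndependentOfCardEqFinrank' _ hli hc, ⟨fun i => ?_, fun i => ?_⟩⟩
  · rw [coe_basisOfLinearIndependentOfCardEqFinrank']
    rfl
  · rw [coe_basisOfLinearIndependentOfCardEqFinrank']
    exact hM _

theorem exists_fr_sq' (h2 : (2 : F) ≠ 0) {M : V ≃ₗ[F] V} {n : F} (hn : n ≠ 0) {k : ℕ}
    (h8 : finrank F (eig M n) = k) (h8' : finrank F (eig M (-n)) = k) : ∃ v : Fin k → V, Fr M v := by
  let x : Basis (Fin k) F (eig M n) := Module.finBasisOfFinrankEq F _ h8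
  let y : Basis (Fin k) F (eig M (-n)) := Module.finBasisOfFinrankEq F _ h8'
  refine ⟨fun i => (x i : V) + y i, fun a c h => ?_⟩
  have hx : ∀ i, M (x i : V) = n • (x i : V) := fun i => mem_eig.1 (x i).2
  have hy : ∀ i, M (y i : V) = (-n) • (y i : V) := fun i => mem_eig.1 (y i).2
  have e1 : ∑ i, (a i • ((x i : V) + y i) + c i • M ((x i : V) + y i)) =
      ((∑ i, (a i + n * c i) • x i : eig M n) : V) + ((∑ i, (a i - n * c i) • y i : eig M (-n)) : V) := by
    rw [Submodule.coe_sum, Submodule.coe_sum, ← Finset.sum_add_distrib]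
    refine Finset.sum_congr rfl fun i _ => ?_
    rw [map_add, hx, hy, Submodule.coe_smul, Submodule.coe_smul]
    module
  rw [e1] at h
  have h3 : ((∑ i, (a i + n * c i) • x i : eig M n) : V) = 0 := by
    apply eig_inf h2 hn (Submodule.coe_mem _)
    rw [eq_neg_of_add_eq_zero_left h]
    exact Submodule.neg_mem _ (Submodule.coe_mem _)
  have h4 : ((∑ i, (a i - n * c i) • y i : eig M (-n)) : V) = 0 := by
    rw [h3, zero_add] at h
    exact h
  have h5 := Fintype.linearIndependent_iff.1 x.linearIndependent _ (Subtype.ext h3)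
  have h6 := Fintype.linearIndependent_iff.1 y.linearIndependent _ (Subtype.ext h4)
  have ha : ∀ i, a i = 0 := by
    intro i
    have h7 : 2 * a i = 0 := by linear_combination h5 i + h6 i
    exact (mul_eq_zero.1 h7).resolve_left h2
  constructor
  · funext i; exact ha i
  · funext i
    have h7 := h5 i
    rw [ha, zero_add] at h7
    exact (mul_eq_zero.1 h7).resolve_left hn

/-- `l` not a square: the dimension is even -/
theorem even_of_nonsq {M : V ≃ₗ[F] V} {l : F} (hM : ∀ v, M (M v) = l • v) (hl : ¬ IsSquare l) :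
    ∃ k, finrank F V = 2 * k := by
  by_contra hcon
  apply hl
  obtain ⟨k, hk⟩ : ∃ k, finrank F V = 2 * k + 1 := by
    rcases Nat.even_or_odd' (finrank F V) with ⟨k, h | h⟩
    · exact (hcon ⟨k, h⟩).elim
    · exact ⟨k, h⟩
  have h1 : M.toLinearMap * M.toLinearMap = l • (1 : V →ₗ[F] V) := by
    ext v
    exact hM v
  have h3 := congrArg LinearMap.det h1
  rw [map_mul, LinearMap.det_smul, map_one, mul_one, hk, pow_succ, pow_mul'] at h3
  by_cases h0 : l = 0
  · rw [h0]; exact IsSquare.zero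
  have h4 : l ^ k ≠ 0 := pow_ne_zero _ h0
  refine ⟨LinearMap.det M.toLinearMap / l ^ k, ?_⟩
  field_simp
  rw [pow_two, pow_two, h3]
  ring

/-- `M` skew: the dimension is even -/
theorem even_of_skew (h2 : (2 : F) ≠ 0) (hQ : Nondeg Q) {M : V ≃ₗ[F] V} {l : F} (hl : l ≠ 0)
    (hM : ∀ v, M (M v) = l • v) (hs : ∀ u v, polar Q (M u) v = - polar Q u (M v)) : ∃ k, finrank F V = 2 * k := by
  by_cases h : IsSquare l
  · obtain ⟨n, rfl⟩ := h
    have hn : n ≠ 0 := fun h0 => hl (by rw [h0, mul_zero])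
    refine ⟨finrank F (eig M n), ?_⟩
    have h1 : finrank F (eig M n) = finrank F (eig M (-n)) := by
      refine le_antisymm (eig_le_of_skew h2 hQ hn hM hs) ?_
      have h1 := eig_le_of_skew h2 hQ (neg_ne_zero.2 hn) (M := M) (by rw [neg_mul_neg]; exact hM) hs
      rw [neg_neg] at h1
      exact h1
    have h3 := finrank_eig h2 hn hM
    omega
  · exact even_of_nonsq hM h

/-- existence of an adapted basis -/
theorem exists_ada' (h2 : (2 : F) ≠ 0) {k : ℕ} (hd : finrank F V = 2 * k) {M : V ≃ₗ[F] V} {l : F} (hl : l ≠ 0)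
    (hM : ∀ v, M (M v) = l • v)
    (h : ∀ n : F, n * n = l → finrank F (eig M n) = finrank F (eig M (-n))) :
    ∃ b : Basis (Fin k ⊕ Fin k) F V, Ada Q M k l b := by
  by_cases hs : IsSquare l
  · obtain ⟨n, rfl⟩ := hs
    have hn : n ≠ 0 := fun h0 => hl (by rw [h0, mul_zero])
    have h1 := finrank_eig h2 hn hM
    have h3 := h n rfl
    obtain ⟨v, hv⟩ := exists_fr_sq' h2 hn (M := M) (k := k) (by omega) (by omega)
    exact exists_ada_of_fr' hd hM hv
  · obtain ⟨v, hv⟩ := exists_fr_nonsq hM hs k (by omega)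
    exact exists_ada_of_fr' hd hM hv

/-- **skew, dimension `2k`**: `finrank = k (k - 1)` -/
theorem finrank_adm_skew' (h2 : (2 : F) ≠ 0) (hQ : Nondeg Q) {k : ℕ} (hd : finrank F V = 2 * k) {M : V ≃ₗ[F] V}
    {l : F} (hl : l ≠ 0) (hM : ∀ v, M (M v) = l • v) (hs : ∀ u v, polar Q (M u) v = - polar Q u (M v)) :
    finrank F (adm Q M) = k * (k - 1) := by
  obtain ⟨b, hb⟩ := exists_ada' (Q := Q) h2 hd hl hM (by
    rintro n rfl
    have hn : n ≠ 0 := fun h0 => hl (by rw [h0, mul_zero])
    refine le_antisymm (eig_le_of_skew h2 hQ hn hM hs) ?_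
    have h1 := eig_le_of_skew h2 hQ (neg_ne_zero.2 hn) (M := M) (by rw [neg_mul_neg]; exact hM) hs
    rw [neg_neg] at h1
    exact h1)
  rw [finrank_adm (e := -1) (by ring) hb hQ (fun u v => by rw [hs]; ring), finrank_AA_neg' h2]

/-- **self-adjoint, `l` not a square, dimension `2k`**: `k²` -/
theorem finrank_adm_nonsq' (h2 : (2 : F) ≠ 0) (hQ : Nondeg Q) {k : ℕ} (hd : finrank F V = 2 * k) {M : V ≃ₗ[F] V}
    {l : F} (hl : ¬ IsSquare l) (hM : ∀ v, M (M v) = l • v) (hs : ∀ u v, polar Q (M u) v = polar Q u (M v)) :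
    finrank F (adm Q M) = k * k := by
  obtain ⟨b, hb⟩ := exists_ada' (Q := Q) h2 hd (l := l) (fun h => hl (by rw [h]; exact IsSquare.zero)) hM (by
    rintro n rfl
    exact (hl ⟨n, rfl⟩).elim)
  rw [finrank_adm (e := 1) (by ring) hb hQ (fun u v => by rw [hs]; ring), finrank_AA_pos' h2]

/-- **self-adjoint, `l` not a square** -/
theorem finrank_adm_nonsq (h2 : (2 : F) ≠ 0) (hQ : Nondeg Q) {M : V ≃ₗ[F] V}
    {l : F} (hl : ¬ IsSquare l) (hM : ∀ v, M (M v) = l • v) (hs : ∀ u v, polar Q (M u) v = polar Q u (M v)) :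
    4 * finrank F (adm Q M) = finrank F V ^ 2 := by
  obtain ⟨k, hk⟩ := even_of_nonsq hM hl
  rw [finrank_adm_nonsq' h2 hQ hk hl hM hs, hk]
  ring

/-- **skew** -/
theorem finrank_adm_skew (h2 : (2 : F) ≠ 0) (hQ : Nondeg Q) {M : V ≃ₗ[F] V}
    {l : F} (hl : l ≠ 0) (hM : ∀ v, M (M v) = l • v) (hs : ∀ u v, polar Q (M u) v = - polar Q u (M v)) :
    4 * finrank F (adm Q M) = finrank F V * (finrank F V - 2) := by
  obtain ⟨k, hk⟩ := even_of_skew h2 hQ hl hM hs
  rw [finrank_adm_skew' h2 hQ hk hl hM hs, hk]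
  rcases k with _ | k
  · rfl
  · rw [show 2 * (k + 1) - 2 = 2 * k by omega, show k + 1 - 1 = k by omega]
    ring

end form

/-! ### Symmetric bilinear forms (`E₇`) -/

section bil

variable {F V : Type*} [Field F] [AddCommGroup V] [Module F V]

/-- the skew maps anticommuting with `M` -/
def adB (B : LinearMap.BilinForm F V) (M : Module.End F V) : Submodule F (Module.End F V) where
  carrier := {S | (∀ u v, B (S u) v = - B u (S v)) ∧ ∀ v, M (S v) = - S (M v)}
  add_mem' := by
    rintro S T ⟨h1, h2⟩ ⟨h3, h4⟩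
    refine ⟨fun u v => ?_, fun v => ?_⟩
    · rw [LinearMap.add_apply, LinearMap.add_apply, map_add, LinearMap.add_apply, map_add, h1, h3]; ring
    · rw [LinearMap.add_apply, LinearMap.add_apply, map_add, h2, h4]; abel
  zero_mem' := by
    refine ⟨fun u v => ?_, fun v => ?_⟩
    · rw [LinearMap.zero_apply, LinearMap.zero_apply, map_zero, map_zero, LinearMap.zero_apply, neg_zero]
    · rw [LinearMap.zero_apply, LinearMap.zero_apply, map_zero, neg_zero]
  smul_mem' := by
    rintro c S ⟨h1, h2⟩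
    refine ⟨fun u v => ?_, fun v => ?_⟩
    · rw [LinearMap.smul_apply, LinearMap.smul_apply, map_smul, map_smul, LinearMap.smul_apply, h1, smul_neg]
    · rw [LinearMap.smul_apply, LinearMap.smul_apply, map_smul, h2, smul_neg]

theorem mem_adB {B : LinearMap.BilinForm F V} {M S : Module.End F V} :
    S ∈ adB B M ↔ (∀ u v, B (S u) v = - B u (S v)) ∧ ∀ v, M (S v) = - S (M v) := Iff.rfl

theorem polar_toQ {B : LinearMap.BilinForm F V} (hB : ∀ u v, B u v = B v u) (u v : V) :
    polar (LinearMap.BilinMap.toQuadraticMap B) u v = 2 * B u v := by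
  rw [LinearMap.BilinMap.polar_toQuadraticMap, hB v u, two_mul]

theorem adB_eq (h2 : (2 : F) ≠ 0) {B : LinearMap.BilinForm F V} (hB : ∀ u v, B u v = B v u) (M : V ≃ₗ[F] V) :
    adB B M.toLinearMap = adm (LinearMap.BilinMap.toQuadraticMap B) M := by
  ext S
  rw [mem_adB, mem_adm]
  refine and_congr (forall_congr' fun u => forall_congr' fun v => ?_) Iff.rfl
  rw [polar_toQ hB, polar_toQ hB, ← mul_neg]
  exact ⟨fun h => by rw [h], fun h => mul_left_cancel₀ h2 h⟩

/-- a linear map with scalar square is invertible -/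
theorem exists_equiv {M : Module.End F V} {l : F} (hl : l ≠ 0) (hM : M * M = l • 1) :
    ∃ M' : V ≃ₗ[F] V, M'.toLinearMap = M := by
  have h1 : ∀ v, M (M v) = l • v := fun v => congrArg (fun f : Module.End F V => f v) hM
  refine ⟨LinearEquiv.ofLinear M (l⁻¹ • M) ?_ ?_, ?_⟩
  · ext v
    show M (l⁻¹ • M v) = v
    rw [map_smul, h1, smul_smul, inv_mul_cancel₀ hl, one_smul]
  · ext v
    show l⁻¹ • M (M v) = v
    rw [h1, smul_smul, inv_mul_cancel₀ hl, one_smul]
  · ext v; rfl

variable [FiniteDimensional F V] {B : LinearMap.BilinForm F V}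

omit [FiniteDimensional F V] in
theorem nondeg_toQ (h2 : (2 : F) ≠ 0) (hB : ∀ u v, B u v = B v u) (nd : ∀ u, (∀ v, B u v = 0) → u = 0) :
    Nondeg (LinearMap.BilinMap.toQuadraticMap B) := by
  intro x hx
  apply nd
  intro v
  have h := hx v
  rw [polar_toQ hB] at h
  exact (mul_eq_zero.1 h).resolve_left h2

/-- **self-adjoint, `l = ν²`**, `k = finrank ker (M + ν)` -/
theorem finrank_adB_sq (h2 : (2 : F) ≠ 0) (hB : ∀ u v, B u v = B v u) (nd : ∀ u, (∀ v, B u v = 0) → u = 0)
    {M : Module.End F V} {ν : F} (hν : ν ≠ 0) (hM : M * M = ν ^ 2 • 1) (hs : ∀ u v, B (M u) v = B u (M v)) :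
    finrank F (adB B M) = finrank F (LinearMap.ker (M + ν • 1)) * (finrank F V - finrank F (LinearMap.ker (M + ν • 1))) := by
  obtain ⟨M, rfl⟩ := exists_equiv (pow_ne_zero 2 hν) hM
  have h1 : ∀ v, M (M v) = ((-ν) * (-ν)) • v := by
    intro v
    rw [neg_mul_neg, ← pow_two]
    exact congrArg (fun f : Module.End F V => f v) hM
  have h3 : LinearMap.ker (M.toLinearMap + ν • (1 : Module.End F V)) = eig M (-ν) := by
    ext v
    rw [mem_eig, LinearMap.mem_ker, LinearMap.add_apply, LinearMap.smul_apply, add_eq_zero_iff_eq_neg, neg_smul]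
    rfl
  rw [adB_eq h2 hB, finrank_adm_sq h2 (nondeg_toQ h2 hB nd) (neg_ne_zero.2 hν) h1
    (fun u v => by rw [polar_toQ hB, polar_toQ hB]; exact congrArg (2 * ·) (hs u v)), h3]

/-- **self-adjoint, `l` not a square** -/
theorem finrank_adB_nonsq (h2 : (2 : F) ≠ 0) (hB : ∀ u v, B u v = B v u) (nd : ∀ u, (∀ v, B u v = 0) → u = 0)
    {M : Module.End F V} {l : F} (hl : ¬ IsSquare l) (hM : M * M = l • 1) (hs : ∀ u v, B (M u) v = B u (M v)) :
    4 * finrank F (adB B M) = finrank F V ^ 2 := by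
  obtain ⟨M, rfl⟩ := exists_equiv (fun h : l = 0 => hl (by rw [h]; exact IsSquare.zero)) hM
  rw [adB_eq h2 hB]
  exact finrank_adm_nonsq h2 (nondeg_toQ h2 hB nd) hl (fun v => congrArg (fun f : Module.End F V => f v) hM)
    (fun u v => by rw [polar_toQ hB, polar_toQ hB]; exact congrArg (2 * ·) (hs u v))

/-- **skew** -/
theorem finrank_adB_skew (h2 : (2 : F) ≠ 0) (hB : ∀ u v, B u v = B v u) (nd : ∀ u, (∀ v, B u v = 0) → u = 0)
    {M : Module.End F V} {l : F} (hl : l ≠ 0) (hM : M * M = l • 1) (hs : ∀ u v, B (M u) v = - B u (M v)) :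
    4 * finrank F (adB B M) = finrank F V * (finrank F V - 2) := by
  obtain ⟨M, rfl⟩ := exists_equiv hl hM
  rw [adB_eq h2 hB]
  exact finrank_adm_skew h2 (nondeg_toQ h2 hB nd) hl (fun v => congrArg (fun f : Module.End F V => f v) hM)
    (fun u v => by rw [polar_toQ hB, polar_toQ hB, ← mul_neg]; exact congrArg (2 * ·) (hs u v))

omit [FiniteDimensional F V] in
/-- a similitude with scalar square is self-adjoint or skew -/
theorem sa_or_sk {M : Module.End F V} {l μ : F} (hl : l ≠ 0) (hM : M * M = l • 1)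
    (hμ : ∀ u v, B (M u) (M v) = μ * B u v) (nd : ∀ u, (∀ v, B u v = 0) → u = 0) :
    (∀ u v, B (M u) v = B u (M v)) ∨ ∀ u v, B (M u) v = - B u (M v) := by
  have h1 : ∀ v, M (M v) = l • v := fun v => congrArg (fun f : Module.End F V => f v) hM
  have h3 : ∀ u v, l * B (M u) v = μ * B u (M v) := by
    intro u v
    rw [← hμ, h1, map_smul, smul_eq_mul]
  by_cases h0 : ∀ u v, B u v = 0
  · left
    intro u v
    rw [h0, h0]
  push Not at h0
  obtain ⟨u, v, huv⟩ := h0
  have h4 : μ * μ = l * l := by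
    have h5 : B (M (M u)) (M (M v)) = μ * (μ * B u v) := by rw [hμ, hμ]
    rw [h1, h1, map_smul, map_smul, LinearMap.smul_apply, smul_eq_mul, smul_eq_mul] at h5
    have h6 : (μ * μ - l * l) * B u v = 0 := by linear_combination -h5
    exact sub_eq_zero.1 ((mul_eq_zero.1 h6).resolve_right huv)
  rcases mul_self_eq_mul_self_iff.1 h4 with h5 | h5
  · left
    intro u v
    have h6 := h3 u v
    rw [h5] at h6
    exact mul_left_cancel₀ hl h6
  · right
    intro u v
    have h6 := h3 u v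
    rw [h5] at h6
    apply mul_left_cancel₀ hl
    rw [h6]; ring

/-! ### Dimension 12: the fields `t1`, `t2`, `t3` of the interface of `E₇` -/

/-- dimension 12, value 32 -/
theorem t1_of (h2 : (2 : F) ≠ 0) (hd : finrank F V = 12) (hB : ∀ u v, B u v = B v u)
    (nd : ∀ u, (∀ v, B u v = 0) → u = 0) {M : Module.End F V} {l μ : F} (hl : l ≠ 0) (hM : M * M = l • 1)
    (hμ : ∀ u v, B (M u) (M v) = μ * B u v) (h : finrank F (adB B M) = 32) :
    ∃ ν : F, ν ≠ 0 ∧ M * M = ν ^ 2 • 1 ∧ (∀ u v, B (M u) v = B u (M v)) ∧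
      (finrank F (LinearMap.ker (M + ν • 1)) = 4 ∨ finrank F (LinearMap.ker (M + ν • 1)) = 8) := by
  rcases sa_or_sk hl hM hμ nd with hs | hs
  · by_cases hq : IsSquare l
    · obtain ⟨ν, rfl⟩ := hq
      have hν : ν ≠ 0 := fun h0 => hl (by rw [h0, mul_zero])
      rw [show ν * ν = ν ^ 2 from (pow_two ν).symm] at hM
      refine ⟨ν, hν, hM, hs, ?_⟩
      have h3 := finrank_adB_sq h2 hB nd hν hM hs
      rw [h, hd] at h3
      have h4 : finrank F (LinearMap.ker (M + ν • 1)) ≤ 12 := hd ▸ Submodule.finrank_le _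
      generalize finrank F (LinearMap.ker (M + ν • (1 : Module.End F V))) = k at h3 h4
      interval_cases k <;> omega
    · have h3 := finrank_adB_nonsq h2 hB nd hq hM hs
      rw [h, hd] at h3
      norm_num at h3
  · have h3 := finrank_adB_skew h2 hB nd hl hM hs
    rw [h, hd] at h3
    norm_num at h3

/-- dimension 12, value not 32 -/
theorem t2_of (h2 : (2 : F) ≠ 0) (hd : finrank F V = 12) (hB : ∀ u v, B u v = B v u)
    (nd : ∀ u, (∀ v, B u v = 0) → u = 0) {M : Module.End F V} {ν : F} (hν : ν ≠ 0) (hM : M * M = ν ^ 2 • 1)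
    (hs : ∀ u v, B (M u) v = B u (M v)) (h : finrank F (adB B M) ≠ 32) :
    finrank F (LinearMap.ker (M + ν • 1)) ≠ 4 ∧ finrank F (LinearMap.ker (M + ν • 1)) ≠ 8 := by
  have h3 := finrank_adB_sq h2 hB nd hν hM hs
  rw [hd] at h3
  constructor
  · intro h4
    rw [h4] at h3
    exact h h3
  · intro h4
    rw [h4] at h3
    exact h h3

/-- dimension 12, value not 36 -/
theorem t3_of (h2 : (2 : F) ≠ 0) (hd : finrank F V = 12) (hB : ∀ u v, B u v = B v u)
    (nd : ∀ u, (∀ v, B u v = 0) → u = 0) {M : Module.End F V} {l : F} (hM : M * M = l • 1)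
    (hs : ∀ u v, B (M u) v = B u (M v)) (h : finrank F (adB B M) ≠ 36) : IsSquare l := by
  by_contra hq
  have h3 := finrank_adB_nonsq h2 hB nd hq hM hs
  rw [hd] at h3
  omega

end bil

/-! ### The ideal `sl₂` -/

section sl2

variable {F : Type*} [Field F]

/-- the elements of `sl₂` anticommuting with `a` -/
def adS (a : Matrix (Fin 2) (Fin 2) F) : Submodule F (Matrix (Fin 2) (Fin 2) F) where
  carrier := {s | s.trace = 0 ∧ a * s = - (s * a)}
  add_mem' := by
    rintro s t ⟨h1, h2⟩ ⟨h3, h4⟩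
    refine ⟨by rw [Matrix.trace_add, h1, h3, add_zero], ?_⟩
    rw [mul_add, add_mul, h2, h4]; abel
  zero_mem' := ⟨Matrix.trace_zero _ _, by rw [mul_zero, zero_mul, neg_zero]⟩
  smul_mem' := by
    rintro c s ⟨h1, h2⟩
    refine ⟨by rw [Matrix.trace_smul, h1, smul_zero], ?_⟩
    rw [mul_smul_comm, smul_mul_assoc, h2, smul_neg]

theorem finrank_adS_scalar (h2 : (2 : F) ≠ 0) {c : F} (hc : c ≠ 0) :
    finrank F (adS (c • (1 : Matrix (Fin 2) (Fin 2) F))) = 0 := by
  rw [Submodule.finrank_eq_zero]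
  rw [eq_bot_iff]
  rintro s ⟨-, h⟩
  rw [smul_mul_assoc, one_mul, mul_smul_comm, mul_one] at h
  have h1 : (2 * c) • s = 0 := by
    rw [two_mul, add_smul]
    nth_rewrite 1 [h]
    rw [neg_add_cancel]
  exact (smul_eq_zero.1 h1).resolve_left (mul_ne_zero h2 hc)

/-- the square of a nonscalar matrix is scalar: the trace is zero -/
theorem trace_zero {a : Matrix (Fin 2) (Fin 2) F} (ha : ¬ ∃ c : F, a = c • 1) {c : F} (h : a * a = c • 1) :
    a.trace = 0 := by
  by_contra ht
  apply ha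
  have h1 : a.trace • a = a * a + a.det • 1 := by
    ext i j
    fin_cases i <;> fin_cases j <;>
      simp [Matrix.mul_apply, Fin.sum_univ_two, Matrix.trace_fin_two, Matrix.det_fin_two] <;> ring
  refine ⟨(c + a.det) / a.trace, ?_⟩
  have h3 : a.trace • a = (c + a.det) • 1 := by rw [h1, h, add_smul]
  rw [div_eq_inv_mul, mul_smul, ← h3, smul_smul, inv_mul_cancel₀ ht, one_smul]

/-- for `a`, `s` of trace zero `a s + s a` is the scalar `tr (a s)` -/
theorem anti_iff {a s : Matrix (Fin 2) (Fin 2) F} (ha : a.trace = 0) (hs : s.trace = 0) :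
    a * s = - (s * a) ↔ (a * s).trace = 0 := by
  rw [Matrix.trace_fin_two] at ha hs
  have key : a * s + s * a = (a * s).trace • 1 := by
    ext i j
    fin_cases i <;> fin_cases j <;>
      simp [Matrix.mul_apply, Fin.sum_univ_two, Matrix.trace_fin_two]
    · linear_combination s 0 0 * ha - a 1 1 * hs
    · linear_combination s 0 1 * ha + a 0 1 * hs
    · linear_combination s 1 0 * ha + a 1 0 * hs
    · linear_combination -s 0 0 * ha + a 1 1 * hs
  rw [← add_eq_zero_iff_eq_neg, key]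
  constructor
  · intro h
    have := congrFun (congrFun h 0) 0
    simpa using this
  · intro h
    rw [h, zero_smul]

/-- **`a` not scalar, `a²` scalar, `a` invertible: dimension 2** -/
theorem finrank_adS (h2 : (2 : F) ≠ 0) {a : Matrix (Fin 2) (Fin 2) F} (ha : ¬ ∃ c : F, a = c • 1) {c : F}
    (hc : c ≠ 0) (h : a * a = c • 1) : finrank F (adS a) = 2 := by
  have ht := trace_zero ha h
  let f : Matrix (Fin 2) (Fin 2) F →ₗ[F] F × F :=
    LinearMap.prod (Matrix.traceLinearMap (Fin 2) F F)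
      ((Matrix.traceLinearMap (Fin 2) F F).comp (LinearMap.mulLeft F a))
  have hf : ∀ s, f s = (s.trace, (a * s).trace) := fun s => rfl
  have hk : adS a = LinearMap.ker f := by
    ext s
    rw [LinearMap.mem_ker, hf, Prod.mk_eq_zero]
    constructor
    · rintro ⟨h1, h3⟩
      exact ⟨h1, (anti_iff ht h1).1 h3⟩
    · rintro ⟨h1, h3⟩
      exact ⟨h1, (anti_iff ht h1).2 h3⟩
  have hs : Function.Surjective f := by
    rintro ⟨x, y⟩
    refine ⟨(x / 2) • 1 + (y / (2 * c)) • a, ?_⟩
    rw [hf]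
    have e1 : (1 : Matrix (Fin 2) (Fin 2) F).trace = 2 := by rw [Matrix.trace_one, Fintype.card_fin]; rfl
    rw [Prod.mk.injEq]
    constructor
    · rw [Matrix.trace_add, Matrix.trace_smul, Matrix.trace_smul, ht, e1, smul_zero, add_zero, smul_eq_mul]
      field_simp
    · rw [mul_add, mul_smul_comm, mul_smul_comm, mul_one, h, Matrix.trace_add, Matrix.trace_smul, Matrix.trace_smul,
        Matrix.trace_smul, ht, e1, smul_zero, zero_add, smul_eq_mul, smul_eq_mul]
      field_simp
  have h3 := LinearMap.finrank_range_add_finrank_ker f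
  rw [LinearMap.range_eq_top.2 hs, finrank_top, Module.finrank_prod, Module.finrank_self, ← hk,
    Module.finrank_matrix, Fintype.card_fin, Module.finrank_self] at h3
  omega

end sl2

end Cfsg.Agent.H921.Co3.Sim
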